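import Cfsg.Agent.CosetEnum.Y322G.Chain0

set_option autoImplicit false
set_option maxRecDepth 100000
set_option Elab.async false

/-! Order bound from the enumeration on 2 cosets. -/

namespace CfsgLib.CosetEnum.Y322G

theorem full : B0 = 2 ^ (enum.n * enum.L.length) - 1 := by decide +kernel

theorem valid_0 : allR (validEntry 2 1 tb id) 1 0 = true := by decide +kernel

theorem valid : allR (validEntry 2 1 tb id) 1 0 = true :=
  valid_0

theorem bound (m : ℕ) (h : Finite (CfsgLib.CosetEnum.Y322.setup.letSub enum.L') ∧
    Nat.card (CfsgLib.CosetEnum.Y322.setup.letSub enum.L') ≤ m) :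
    Finite (CfsgLib.CosetEnum.Y322.setup.letSub enum.L) ∧
      Nat.card (CfsgLib.CosetEnum.Y322.setup.letSub enum.L) ≤ 2 * m :=
  enum.bound (d := 1) (B := B0) (by decide +kernel) (by decide +kernel) (by decide +kernel) good0 valid full h.1 h.2

end CfsgLib.CosetEnum.Y322G
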